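import Cfsg.Agent.AB.Two1
import Cfsg.Agent.AB.Weyl
import Cfsg.Agent.Local.CharP

/-! Two natural parabolics: the initial reduction. -/

set_option autoImplicit false
set_option linter.unusedSectionVars false

namespace Cfsg.Lib.Gomi

open Subgroup Cfsg.Lib.Trans Cfsg.Lib.Gold Cfsg.Lib.Trans.MP Cfsg.Lib.Chev.Core Matrix
open scoped commutatorElement

universe u

variable {G : Type u} [Group G] {A B L L' S T : Subgroup G} {F : Type*} [Field F]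
  {θ θ' : G → SpecialLinearGroup (Fin 2) F} {ψ ψ' : G → Fin 2 → F}

/-- `L / A ≅ SL₂(F)` acts on `A` as on the natural module. -/
structure Nat1 (L A : Subgroup G) (θ : G → SpecialLinearGroup (Fin 2) F) (ψ : G → Fin 2 → F) :
    Prop where
  nat : NatMod L A ⊥ θ ψ
  le : A ≤ L
  ker : ∀ l ∈ L, θ l = 1 ↔ l ∈ A

theorem exists_nat1 (φ : L ⧸ pCore 2 L ≃* SpecialLinearGroup (Fin 2) F)
    (χ : Additive (pCore 2 L) ≃+ (Fin 2 → F))
    (h : ∀ (g : L) (v : pCore 2 L),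
      χ (Additive.ofMul ⟨g * v * g⁻¹, Normal.conj_mem inferInstance (v : L) v.2 g⟩) =
        (φ (QuotientGroup.mk g) : Matrix (Fin 2) (Fin 2) F).mulVec (χ (Additive.ofMul v))) :
    ∃ (θ : G → SpecialLinearGroup (Fin 2) F) (ψ : G → Fin 2 → F), Nat1 L (pCoreOf 2 L) θ ψ := by
  classical
  have hle := Local.pCoreOf_le (p := 2) L
  have hm : ∀ {v : G} (hv : v ∈ pCoreOf 2 L), (⟨v, hle hv⟩ : L) ∈ pCore 2 L := fun hv =>
    Local.pCoreOf_subgroupOf (p := 2) L ▸ hv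
  let θ : G → SpecialLinearGroup (Fin 2) F := fun x =>
    if hx : x ∈ L then φ (QuotientGroup.mk ⟨x, hx⟩) else 1
  let ψ : G → Fin 2 → F := fun x =>
    if hx : x ∈ pCoreOf 2 L then χ (Additive.ofMul ⟨⟨x, hle hx⟩, hm hx⟩) else 0
  have hθ : ∀ x (hx : x ∈ L), θ x = φ (QuotientGroup.mk ⟨x, hx⟩) := fun x hx => dif_pos hx
  have hψ : ∀ x (hx : x ∈ pCoreOf 2 L), ψ x = χ (Additive.ofMul ⟨⟨x, hle hx⟩, hm hx⟩) :=
    fun x hx => dif_pos hx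
  refine ⟨θ, ψ, ⟨Local.le_normalizer_pCoreOf L, bot_le, fun u hu v hv => ?_, fun y => ?_,
    fun v hv => ?_, fun l hl k hk => ?_, fun l hl v hv => ?_, fun T => ?_⟩, hle, fun l hl => ?_⟩
  · rw [hψ _ (mul_mem hu hv), hψ _ hu, hψ _ hv, ← map_add]; rfl
  · obtain ⟨v, rfl⟩ := χ.surjective y
    have hv : (Additive.toMul v).1.1 ∈ pCoreOf 2 L := mem_map_of_mem _ (Additive.toMul v).2
    exact ⟨_, hv, hψ _ hv⟩
  · rw [hψ _ hv, map_eq_zero_iff _ χ.injective, mem_bot]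
    exact ⟨fun e => congrArg (fun x : Additive (pCore 2 L) => (Additive.toMul x).1.1) e,
      fun e => by subst e; rfl⟩
  · rw [hθ _ (mul_mem hl hk), hθ _ hl, hθ _ hk, ← map_mul]; rfl
  · rw [hψ _ (mem_normalizer_conj (Local.le_normalizer_pCoreOf L hl) hv), hψ _ hv, hθ _ hl, ← h]
    rfl
  · obtain ⟨x, rfl⟩ := φ.surjective T
    obtain ⟨l, rfl⟩ := QuotientGroup.mk_surjective x
    exact ⟨l, l.2, hθ _ l.2⟩
  · rw [hθ _ hl, map_eq_one_iff _ φ.injective, QuotientGroup.eq_one_iff,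
      ← Local.pCoreOf_subgroupOf, mem_subgroupOf]

theorem tri_eq_one [CharP F 2] {T : SpecialLinearGroup (Fin 2) F} (h : T 1 0 = 0) (h2 : E2 T) :
    T 0 0 = 1 := by
  have key : ∀ n : ℕ, (T ^ n) 1 0 = 0 ∧ (T ^ n) 0 0 = T 0 0 ^ n := fun n => by
    induction n with
    | zero => simp
    | succ n ih => rw [pow_succ, sl2_mul_apply, sl2_mul_apply, ih.1, ih.2, h, pow_succ]; simp
  obtain ⟨k, hk⟩ := h2
  have h1 := (key (2 ^ k)).2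
  rw [hk] at h1
  have h3 : (T 0 0 - 1) ^ 2 ^ k = 0 := by rw [sub_pow_char_pow, ← h1]; simp
  exact sub_eq_zero.1 (pow_eq_zero_iff (by positivity) |>.1 h3)

namespace Nat1

variable (N : Nat1 L A θ ψ)
include N

theorem sq [CharP F 2] : ∀ a ∈ A, a * a = 1 := fun a ha =>
  mem_bot.1 ((N.nat.ker _ (mul_mem ha ha)).1 (by rw [N.nat.add a ha a ha, CharTwo.add_self_eq_zero]))

theorem le_of {K : Subgroup G} (hA : A ≤ K) (hU : ∀ t, ∃ k ∈ K ⊓ L, θ k = sl2U t) {u : G}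
    (hu : u ∈ K ⊓ L) (hu' : θ u 1 0 ≠ 0) : L ≤ K := by
  have h1 : (K.subgroupOf L).map N.nat.hom = ⊤ :=
    sl2_eq_top (fun t => by
      obtain ⟨k, hk, e⟩ := hU t
      exact ⟨⟨k, hk.2⟩, hk.1, e⟩) (T := θ u) ⟨⟨u, hu.2⟩, hu.1, rfl⟩ hu'
  intro l hl
  obtain ⟨⟨k, hk⟩, hk', e⟩ := h1.ge (mem_top (θ l))
  refine (mul_mem_cancel_left (inv_mem (show k ∈ K from hk'))).1
    (hA ((N.ker _ (mul_mem (inv_mem hk) hl)).1 ?_))
  rw [N.nat.mul _ (inv_mem hk) _ hl, N.nat.theta_inv hk, ← e]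
  exact inv_mul_cancel _

theorem e2 {x : G} (hx : x ∈ L) (h : E2 x) : E2 (θ x) := by
  obtain ⟨k, hk⟩ := h
  exact ⟨k, by rw [← N.nat.hom_apply ⟨x, hx⟩, ← map_pow, show (⟨x, hx⟩ : L) ^ 2 ^ k = 1 from
    Subtype.ext hk, map_one]⟩

variable [CharP F 2] [Finite G] [Fintype F]

theorem exists_onto (hq : 2 < Fintype.card F) (hS : IsSylowIn 2 S L) :
    ∃ (θ : G → SpecialLinearGroup (Fin 2) F) (ψ : G → Fin 2 → F), Nat1 L A θ ψ ∧ OntoU θ S := by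
  let U : Subgroup G :=
    { carrier := {x | x ∈ L ∧ ∃ t, θ x = sl2U t}
      one_mem' := ⟨one_mem _, 0, by rw [N.nat.theta_one, sl2U_zero]⟩
      mul_mem' := by
        rintro x y ⟨hx, s, e⟩ ⟨hy, t, e'⟩
        exact ⟨mul_mem hx hy, s + t, by rw [N.nat.mul x hx y hy, e, e', sl2U_mul]⟩
      inv_mem' := by
        rintro x ⟨hx, s, e⟩
        exact ⟨inv_mem hx, -s, by rw [N.nat.theta_inv hx, e, sl2U_inv]⟩ }
  have hU : IsPGroup 2 U := Solv.PG.isPGroup_of_forall_mem fun x ⟨hx, s, e⟩ =>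
    E2.of_sq (.of_mem (isPGroup_of_sq N.sq) ((N.ker _ (mul_mem hx hx)).1 (by
      rw [N.nat.mul x hx x hx, e, sl2U_mul, CharTwo.add_self_eq_zero, sl2U_zero])))
  obtain ⟨l, hl, h1⟩ := hS.exists_cj_le hU fun _ h => h.1
  have h2 := N.nat.cj l
  rw [cj_eq_of_mem hl, cj_eq_of_mem_normalizer (N.nat.norm hl), cj_bot] at h2
  have h3 : ∀ x ∈ L, l⁻¹ * x * l ∈ L := fun x hx => mul_mem (mul_mem (inv_mem hl) hx) hl
  have h4 : ∀ t, ∃ k ∈ U, θ k = sl2U t := fun t => by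
    obtain ⟨k, hk, e⟩ := N.nat.onto (sl2U t)
    exact ⟨k, ⟨hk, t, e⟩, e⟩
  refine ⟨_, _, ⟨h2, N.le, fun x hx => ?_⟩, fun s hs => ?_, fun t => ?_⟩
  · rw [N.ker _ (h3 x hx), ← mem_cj, cj_eq_of_mem_normalizer (N.nat.norm hl)]
  · have h5 := h3 s (hS.le hs)
    have h6 : l⁻¹ * s * l ∈ cj l⁻¹ S := mem_cj_inv.2 (by simpa [mul_assoc] using hs)
    have h7 := isPGroup_cj hS.isPGroup l⁻¹
    rw [cj_le_iff_le_cj_inv] at h1
    by_cases h8 : θ (l⁻¹ * s * l) 1 0 = 0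
    · exact ⟨_, eq_sl2U h8 (tri_eq_one h8 (N.e2 h5 (.of_mem h7 h6)))⟩
    obtain ⟨t, t0, t1⟩ := exists_ne_zero_ne_one hq
    obtain ⟨m, hm, e⟩ := N.nat.onto (sl2T t t0)
    have h9 := N.e2 hm (.of_mem h7 (N.le_of (fun a ha => h1 ⟨N.le ha, 0, by
      rw [(N.ker a (N.le ha)).2 ha, sl2U_zero]⟩) (fun t => by
        obtain ⟨k, hk, e⟩ := h4 t
        exact ⟨k, ⟨h1 hk, hk.1⟩, e⟩) ⟨h6, h5⟩ h8 hm))
    exact absurd (tri_eq_one rfl (e ▸ h9)) t1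
  · obtain ⟨k, hk, e⟩ := h4 t
    exact ⟨_, h1 (conj_mem_cj.2 hk), by simpa [mul_assoc] using e⟩

omit [Finite G] [Fintype F] [CharP F 2] in
theorem ontoB (hB : B ≤ L) (h : OntoU θ (A ⊔ B)) : OntoU θ B :=
  ⟨fun b hb => h.1 b (mem_sup_right hb), fun t => by
    obtain ⟨s, hs, e⟩ := h.2 t
    obtain ⟨a, ha, b, hb, rfl⟩ := Solv.exists_mul_of_mem_sup_of_le_normalizer
      (hB.trans N.nat.norm) hs
    exact ⟨b, hb, by rwa [N.nat.mul a (N.le ha) b (hB hb), (N.ker a (N.le ha)).2 ha, one_mul] at e⟩⟩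

omit [Finite G] [Fintype F] [CharP F 2] in
theorem psi_comm {a b : G} {t : F} (ha : a ∈ A) (hb : b ∈ L) (e : θ b = sl2U t) :
    ψ ⁅b, a⁆ = ![t * ψ a 1, 0] := by
  rw [N.nat.psi_comm hb ha, e]
  ext i
  fin_cases i <;> simp [sl2U, mulVec, dotProduct, Fin.sum_univ_two]

omit [Finite G] [Fintype F] in
theorem memB (hB : B ≤ L) (h : OntoU θ B) (sB : ∀ b ∈ B, b * b = 1) (nB : A ≤ Ns B) {v : G}
    (hv : v ∈ A) : v ∈ B ↔ ψ v 1 = 0 := by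
  obtain ⟨b, hb, e⟩ := h.2 1
  refine ⟨fun h1 => ?_, fun h1 => ?_⟩
  · have := N.psi_comm hv (hB hb) e
    rw [commutatorElement_eq_one_iff_mul_comm.2 (mem_C1.1 (AB.le_C1 sB h1 hb)),
      N.nat.psi_one] at this
    simpa using (congrFun this 0).symm
  · obtain ⟨a, ha, e'⟩ := N.nat.surj ![0, ψ v 0]
    have h2 := (N.nat.psi_eq_iff (N.nat.comm_mem (hB hb) ha) hv).1 (by
      rw [N.psi_comm ha (hB hb) e, e']
      exact vec_ext (by simp) h1.symm)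
    rw [mem_bot, inv_mul_eq_one] at h2
    exact h2 ▸ commutatorElement_inv a b ▸ B.inv_mem (Par.comm_mem_N (nB ha) hb)

omit [Finite G] [Fintype F] in
theorem ab (hB : B ≤ L) (h : OntoU θ B) (sB : ∀ b ∈ B, b * b = 1) (nB : A ≤ Ns B) : AB A B := by
  refine ⟨N.sq, sB, hB.trans N.nat.norm, nB, fun s hs e => ?_, fun e => ?_, fun e => ?_⟩
  · obtain ⟨a, ha, b, hb, rfl⟩ := Solv.exists_mul_of_mem_sup_of_le_normalizer
      (hB.trans N.nat.norm) hs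
    obtain ⟨t, e'⟩ := h.1 b hb
    have h1 := N.psi_comm ha (hB hb) e'
    rw [show ⁅b, a⁆ = 1 by
      rw [commutatorElement_def, ← eq_inv_of_mul_eq_one_left (N.sq a ha),
        ← eq_inv_of_mul_eq_one_left (sB b hb), ← conj_eq_one_iff (a := a), ← e,
        ← eq_inv_of_mul_eq_one_left (N.sq a ha), mul_assoc, mul_assoc, mul_assoc, N.sq a ha]
      group, N.nat.psi_one] at h1
    rcases mul_eq_zero.1 (congrFun h1 0).symm with h2 | h2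
    · exact Or.inl (mul_mem ha ((N.ker b (hB hb)).1 (by rw [e', h2, sl2U_zero])))
    · exact Or.inr (mul_mem ((N.memB hB h sB nB ha).2 h2) hb)
  · obtain ⟨a, ha, e'⟩ := N.nat.surj ![0, 1]
    simpa [e'] using (N.memB hB h sB nB ha).1 (e ha)
  · obtain ⟨b, hb, e'⟩ := h.2 1
    simpa [sl2U] using congrFun₂ (congrArg Subtype.val (e'.symm.trans
      ((N.ker b (hB hb)).2 (e hb)))) 0 1

theorem par (hB : B ≤ L) (h : OntoU θ B) (sB : ∀ b ∈ B, b * b = 1) (nB : A ≤ Ns B)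
    (hS : IsSylowIn 2 (A ⊔ B) L) (hn : Ns A ≤ Ns L) :
    LL A B = L ∧ ZZ A B = ⊥ ∧ L ⊓ Cs A ≤ A ∧ HasPar F A B := by
  have ab := N.ab hB h sB nB
  have irr : ∀ K ≤ A, L ≤ Ns K → K ≠ ⊥ → A ≤ K := fun K h1 h2 h3 v hv => by
    obtain ⟨w, hw, e⟩ := N.nat.irr h1 h2 (mt eq_bot_iff.2 h3) v hv
    exact inv_mul_eq_one.1 (mem_bot.1 e) ▸ hw
  have h1 : LL A B = L := by
    refine le_antisymm (ncl_le_of_le_Ns hB hn) ?_
    obtain ⟨z, hz, z1⟩ := ab.inf_ne_bot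
    obtain ⟨w, hw, e⟩ := N.nat.onto (sl2V 1)
    obtain ⟨b, hb, e'⟩ := h.2 1
    refine N.le_of ((irr (A ⊓ LL A B) inf_le_left (fun l hl => Ns_inf_le_Ns_inf ⟨N.nat.norm hl,
      Ns_le_Ns_LL (N.nat.norm hl)⟩) fun e => z1 (mem_bot.1 (e.le ⟨hz.1, B_le_LL hz.2⟩))).trans
        inf_le_right) (fun t => ?_) (u := w * b * w⁻¹) ⟨cj_le_ncl (N.nat.norm hw) (conj_mem_cj.2 hb),
          L.mul_mem (mul_mem hw (hB hb)) (inv_mem hw)⟩ ?_
    · obtain ⟨b, hb, e⟩ := h.2 t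
      exact ⟨b, ⟨B_le_LL hb, hB hb⟩, e⟩
    · rw [N.nat.mul _ (mul_mem hw (hB hb)) _ (inv_mem hw), N.nat.mul _ hw _ (hB hb),
        N.nat.theta_inv hw, e, e', sl2_mul_apply, sl2_mul_apply, sl2_mul_apply,
        SpecialLinearGroup.SL2_inv_expl]
      simp [sl2U, sl2V]
  have h2 : ZZ A B = ⊥ := by_contra fun e => by
    obtain ⟨a, ha, b, hb, -, -, e'⟩ := ab.exists_comm_ne
    exact e' (commutatorElement_eq_one_iff_mul_comm.2 ((irr _ ZZ_le_A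
      (N.nat.norm.trans Ns_le_Ns_ZZ) e ha).2 b (B_le_LL hb)).symm)
  exact ⟨h1, h2, fun l hl => (N.ker l hl.1).1 ((N.nat.theta_eq_one_iff hl.1).2
      (mem_Cs_iff_comm.1 hl.2)), θ, ψ, ab, h1.symm ▸ h2.symm ▸ N.nat, h,
    fun v hv => N.memB hB h sB nB hv, fun l hl e => ab.le_Cs ((N.ker l (h1 ▸ hl)).1 e),
    h1.symm ▸ hS⟩

end Nat1

variable [Finite G] [Fintype F]

/-- Two natural parabolics and a common Sylow subgroup of their normalisers. -/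
structure Pre (F : Type*) [Field F] [Fintype F] (A B T : Subgroup G) : Prop where
  h : HasPar F A B
  h' : HasPar F B A
  zA : ZZ A B = ⊥
  zB : ZZ B A = ⊥
  kA : LL A B ⊓ Cs A ≤ A
  kB : LL B A ⊓ Cs B ≤ B
  hq : 2 < Fintype.card F
  sA : IsSylowIn 2 T (Ns A)
  sB : IsSylowIn 2 T (Ns B)
  le : A ⊔ B ≤ T
  core : pCoreOf 2 (T ⊔ (LL A B ⊔ LL B A)) = ⊥

theorem HasPar.le_Ns_B (h : HasPar F A B) {R : Subgroup G} (hR : IsPGroup 2 R) (h1 : A ⊔ B ≤ R)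
    (h2 : R ≤ Ns A) : R ≤ Ns B := fun r hr => h.ab.Ns_inf_le ⟨by
  rw [← h.syl.eq_inf hR h1]
  exact Ns_inf_le_Ns_inf ⟨le_normalizer hr, Ns_le_Ns_LL (h2 hr)⟩, h2 hr⟩

namespace Pre

variable (T' : Pre F A B T)
include T'

theorem symm : Pre F B A T := ⟨T'.h', T'.h, T'.zB, T'.zA, T'.kB, T'.kA, T'.hq, T'.sB, T'.sA,
  sup_comm A B ▸ T'.le, by rw [sup_comm (LL B A)]; exact T'.core⟩

theorem comm_mem {l d : G} (hl : l ∈ LL A B) (hd : d ∈ T ⊓ Cs A) : ⁅l, d⁆ ∈ A :=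
  T'.kA ⟨commutatorElement_inv d l ▸ (LL A B).inv_mem (Par.comm_mem_N (Ns_le_Ns_LL (T'.sA.le hd.1)) hl),
    Par.comm_mem_N (normalizer_le_normalizer_centralizer A (LL_le T'.h.ab hl)) hd.2⟩

theorem exists_t : ∃ t ∈ LL A B ⊓ Ns B, (∀ d ∈ T ⊓ Cs A, ∃ a ∈ A, a⁻¹ * d ∈ C1 t) ∧
    ∀ d ∈ T ⊓ Cs A, d ∈ C1 t → d ∈ Cs (LL A B) := by
  have ab := T'.h.ab
  obtain ⟨θ, ψ, P⟩ := T'.h
  obtain ⟨s, s0, s1⟩ := exists_ne_zero_ne_one T'.hq
  obtain ⟨t, ht, e⟩ := P.nat.onto (sl2T s s0)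
  obtain ⟨w, hw, e'⟩ := P.nat.onto sl2W
  have htA := LL_le ab ht
  have htB : t ∈ Ns B := by
    obtain ⟨c, hc, m, hm, rfl⟩ := T'.h.exists_mul_of_mem_Ns ⟨htA, (P.mem_Ns_Z ht).2 (e ▸ rfl)⟩
    exact mul_mem (ab.nB (T'.kA hc)) hm.2
  have e0 : θ t 0 0 = s := e ▸ rfl
  have fp : ∀ a ∈ A, ⁅t, a⁆ = 1 → a = 1 := fun a ha h =>
    mem_bot.1 (T'.zA ▸ (P.fpf ⟨ht, htB⟩ (e0 ▸ s1)).1 a ha (h ▸ one_mem _))
  refine ⟨t, ⟨ht, htB⟩, fun d hd => ?_, fun d hd hc => ?_⟩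
  · obtain ⟨a, h⟩ := Finite.injective_iff_surjective.1 (show Function.Injective
      fun a : A => (⟨⁅t, (a : G)⁆, Par.comm_mem_N htA a.2⟩ : A) from fun a b h => by
        have h1 := fp _ (mul_mem (inv_mem a.2) b.2) (by
          rw [comm_mul_right', ← show ⁅t, (a : G)⁆ = ⁅t, (b : G)⁆ from Subtype.ext_iff.1 h]
          simp only [commutatorElement_def]
          group)
        exact Subtype.ext (inv_mul_eq_one.1 h1)) ⟨_, T'.comm_mem ht hd⟩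
    refine ⟨a, a.2, mem_C1.2 (commutatorElement_eq_one_iff_mul_comm.1 ?_).symm⟩
    rw [comm_mul_right', ← show ⁅t, (a : G)⁆ = ⁅t, d⁆ from Subtype.ext_iff.1 h]
    simp only [commutatorElement_def]
    group
  have hdB := T'.sB.le hd.1
  have h1 : d ∈ Cs B := by
    obtain ⟨a, ha, h2⟩ := T'.h'.exists_inv_mul_mem_Cs T'.zB hdB (centralizer_le inf_le_right hd.2)
      fun b hb => commutatorElement_inv b d ▸ A.inv_mem (T'.comm_mem (B_le_LL hb) hd)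
    have h3 : ∀ b ∈ B, ⁅a, b⁆ = ⁅d, b⁆ := fun b hb => by
      rw [← mul_inv_cancel_left a d, comm_mul_left', mem_Cs_iff_comm.1 h2 b hb]; group
    obtain ⟨b, hb, h4⟩ := P.exists_B 1
    have h5 := P.actZ ht (ab.comm_mem ha hb)
    rw [h3 b hb, conj_comm, show t * d * t⁻¹ = d by rw [← mem_C1.1 hc, mul_inv_cancel_right],
      ← h3 b hb, ← h3 _ (mem_normalizer_conj htB hb), P.psi_comm ha hb,
      P.psi_comm ha (mem_normalizer_conj htB hb), P.actB ⟨ht, htB⟩ hb, h4, e0] at h5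
    have h6 : ψ a 1 = 0 := by_contra fun h6 => s1 (mul_left_cancel₀ (mul_ne_zero h6 s0)
      (by linear_combination h5))
    exact (mul_mem_cancel_left (inv_mem (ab.symm.le_Cs ((P.memB a ha).2 h6)))).1 h2
  have h4 := mul_mem (mul_mem hw ht) (inv_mem hw)
  have h2 : w * t * w⁻¹ * t ∈ A := T'.kA ⟨mul_mem h4 ht, P.ker _ (mul_mem h4 ht) (by
      have : sl2T s s0 * sl2W * sl2T s s0 = sl2W := by
        apply sl2_ext <;> rw [sl2_mul_apply, sl2_mul_apply, sl2_mul_apply] <;> simp [sl2W, sl2T, s0]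
      rw [P.nat.mul _ h4 _ ht, P.theta_conj hw ht, e, e']
      calc _ = sl2W * sl2T s s0 * (sl2T s s0 * sl2W * sl2T s s0)⁻¹ * sl2T s s0 := by rw [this]
        _ = 1 := by group)⟩
  have h3 : ⁅w, d⁆ = 1 := by
    refine fp _ (T'.comm_mem hw hd) (commutatorElement_eq_one_iff_commute.2 ?_)
    have c1 : Commute t d := (mem_C1.1 hc).symm
    have c2 : Commute (w * t * w⁻¹) (w * d * w⁻¹) := c1.conj w
    have c3 : Commute (w * t * w⁻¹ * t) (w * d * w⁻¹) :=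
      mem_normalizer_conj (normalizer_le_normalizer_centralizer A (LL_le ab hw)) hd.2 _ h2
    have c4 := c2.inv_left.mul_left c3
    rw [inv_mul_cancel_left] at c4
    exact c4.mul_right c1.inv_right
  have N : Nat1 (LL A B) A θ ψ := ⟨T'.zA ▸ P.nat, P.A_le, fun l hl =>
    ⟨fun e => T'.kA ⟨hl, P.ker l hl e⟩, P.theta_A⟩⟩
  refine le_Cs_comm.1 (N.le_of (K := Cs (zpowers d)) ?_ (fun t => ?_) (u := w) ⟨?_, hw⟩
    (by rw [e']; simp [sl2W])) (mem_zpowers d)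
  · exact le_Cs_comm.1 (zpowers_le.2 hd.2)
  · obtain ⟨b, hb, e⟩ := P.ontoU.2 t
    exact ⟨b, ⟨le_Cs_comm.1 (zpowers_le.2 h1) hb, B_le_LL hb⟩, e⟩
  · rintro _ ⟨n, rfl⟩
    exact ((commutatorElement_eq_one_iff_commute.1 h3).zpow_right n).eq.symm

theorem Cs_le : T ⊓ Cs (LL B A) ≤ Cs (LL A B) := fun x hx => by
  obtain ⟨t, ht, -, h⟩ := T'.exists_t
  have hd : x ∈ T ⊓ Cs A := ⟨hx.1, centralizer_le B_le_LL hx.2⟩
  have h1 := T'.comm_mem ht.1 hd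
  have h2 : ⁅t, x⁆ ∈ Cs (LL B A) :=
    Par.comm_mem_N (normalizer_le_normalizer_centralizer _ (Ns_le_Ns_LL ht.2)) hx.2
  obtain ⟨b, hb, hb'⟩ := T'.h.ab.exists_B
  refine h x hd (mem_C1.2 (commutatorElement_eq_one_iff_mul_comm.1 (mem_bot.1 (T'.zB.le ⟨?_, h2⟩))).symm)
  obtain ⟨θ, ψ, P⟩ := T'.h'
  exact T'.h.ab.mem_B_of_comm h1 hb hb' (h2 b (P.A_le hb)).symm

theorem eq_bot : T ⊓ Cs (LL B A) = ⊥ := eq_bot_iff.2 (T'.core ▸ Local.le_pCoreOf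
  (inf_le_left.trans le_sup_left) (sup_le (fun x hx => Ns_inf_le_Ns_inf ⟨le_normalizer hx,
    normalizer_le_normalizer_centralizer _ (Ns_le_Ns_LL (T'.sB.le hx))⟩)
    ((sup_le (le_Cs_comm.1 T'.Cs_le) (le_Cs_comm.1 inf_le_right)).trans Cs_le_Ns))
  T'.sA.isPGroup.to_inf_left)

theorem cA (hG : Local.CharP 2 (Ns A)) : Cs A ≤ A := by
  obtain ⟨t, ht, h1, h2⟩ := T'.exists_t
  have ab := T'.h.ab
  have h3 : T ⊓ Cs A ≤ A := fun d hd => by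
    obtain ⟨a, ha, e⟩ := h1 d hd
    have h4 : a⁻¹ * d ∈ T ⊓ Cs A := mul_mem (inv_mem ⟨T'.le (mem_sup_left ha), ab.le_Cs ha⟩) hd
    exact inv_mul_eq_one.1 (mem_bot.1 (T'.symm.eq_bot.le ⟨h4.1, h2 _ h4 e⟩)) ▸ ha
  have hQ := Local.pCoreOf_le_sylowIn T'.sA
  have h4 : pCoreOf 2 (Ns A) ≤ A := by
    obtain ⟨z, hz, z1⟩ := ab.inf_ne_bot
    obtain ⟨w, hw, w1, h5⟩ := Solv.PG.exists_not_mem_commutator_mem (N := A) (H := ⊥)
      T'.sA.isPGroup.isNilpotent (le_sup_left.trans T'.le) T'.sA.le fun e => z1 (e hz.1)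
    rcases T'.h.irr (K := A ⊓ Cs (pCoreOf 2 (Ns A))) inf_le_left ((LL_le ab).trans fun n hn =>
      Ns_inf_le_Ns_inf ⟨hn, normalizer_le_normalizer_centralizer _
        (Local.le_normalizer_pCoreOf _ hn)⟩) with h6 | h6
    · exact absurd (T'.zA.le (h6 ⟨hw, mem_Cs_iff_comm.2 fun r hr => (h5 r (hQ hr)).1⟩)) w1
    · rw [T'.zA, sup_bot_eq] at h6
      exact (le_inf hQ (le_Cs_comm.1 (h6.trans inf_le_right))).trans h3
  exact fun x hx => h4 (hG ⟨Cs_le_Ns hx, centralizer_le h4 hx⟩)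

theorem two (hG : IsCharacteristicTwoType G) : Two F A B := by
  obtain ⟨z, hz, z1⟩ := T'.h.ab.inf_ne_bot
  exact ⟨T'.h, T'.h', T'.zA, T'.zB, T'.cA (Local.charP_iff.2 (hG.2 A (isPGroup_of_sq T'.h.ab.sqA)
    fun e => z1 (e.le hz.1))), T'.symm.cA (Local.charP_iff.2 (hG.2 B (isPGroup_of_sq T'.h.ab.sqB)
    fun e => z1 (e.le hz.2))), T'.hq⟩

end Pre

theorem exists_pre (h : HasPar F A B) (h' : HasPar F B A) (zA : ZZ A B = ⊥) (zB : ZZ B A = ⊥)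
    (kA : LL A B ⊓ Cs A ≤ A) (kB : LL B A ⊓ Cs B ≤ B) (hq : 2 < Fintype.card F)
    (hT : IsSylowIn 2 T (Ns A)) (hO : pCoreOf 2 (T ⊔ LL A B ⊔ LL B A) = ⊥) :
    ∃ T, Pre F A B T := by
  obtain ⟨l, hl, e⟩ := h.syl.exists_cj_eq (hT.inf_normal_of_le Ns_le_Ns_LL (LL_le h.ab))
  have h1 := hT.cj_of_mem (LL_le h.ab hl)
  have h2 : A ⊔ B ≤ cj l T := e ▸ cj_mono l inf_le_left
  refine ⟨_, h, h', zA, zB, kA, kB, hq, h1, isSylowIn_of_maximal (h.le_Ns_B h1.isPGroup h2 h1.le)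
    h1.isPGroup fun R hR h3 h4 => (h1.eq_of_le hR h3 (h'.le_Ns_B hR
      (sup_comm A B ▸ h2.trans h3) h4)).le, h2, ?_⟩
  rw [← sup_assoc, ← hO, ← cj_eq_of_mem hl, ← cj_sup, cj_eq_of_mem (mem_sup_right hl),
    cj_eq_of_mem hl]

end Cfsg.Lib.Gomi
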