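import Cfsg.Agent.AB.Two1
import Cfsg.Agent.Solv.HaradaTools
import Cfsg.Agent.Local.ProdCard

/-! Two natural parabolics over the field of four elements: sectional 2-rank at most four. -/

set_option autoImplicit false
set_option linter.unusedSectionVars false

namespace Cfsg.Lib.Gomi

open Subgroup Cfsg.Lib.Trans Cfsg.Lib.Gold
open Cfsg.Lib.Local (IdxLeTwo)
open scoped commutatorElement

universe u

variable {G : Type u} [Group G] {A B : Subgroup G} {F : Type*} [Field F]

theorem sq_mem_Cs_of_idx {Z : Subgroup G} (hZ : ∀ z ∈ Z, z * z = 1) {x : G} (hx : x ∈ Ns Z)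
    (hi : IdxLeTwo (C1 x) Z) : x * x ∈ Cs Z := by
  refine sq_mem_Cs_of_Stb (W := C1 x ⊓ Z) (fun w hw => hZ w hw.2)
    ⟨hx, fun w hw => mem_C1.1 hw.1, fun a ha => ⟨?_, Par.comm_mem_N hx ha⟩⟩
  by_cases h : a ∈ C1 x
  · rw [commutatorElement_eq_one_iff_mul_comm.2 (mem_C1.1 h).symm]
    exact one_mem _
  · refine hi _ (mem_normalizer_conj hx ha) _ (inv_mem ha) (fun e => h (mem_C1.2 ?_))
      fun e => h (inv_mem_iff.1 e)
    have := mem_C1.1 e
    rw [inv_mul_cancel_right, mul_assoc, mul_right_inj, ← mul_assoc] at this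
    rw [eq_comm, ← mul_inv_eq_iff_eq_mul, ← this]

variable [Fintype F] [Finite G]

namespace Two

variable (T : Two F A B) (hq : Fintype.card F = 4)
include T hq

theorem sq_mem_Cs {x : G} (hx : x ∈ Ns (A ⊓ B)) (h2 : E2 x) : x * x ∈ Cs (A ⊓ B) := by
  obtain ⟨z, hz, z1⟩ := T.ab.inf_ne_bot
  obtain ⟨a, ha, a1, e⟩ := exists_fix (X := A ⊓ B) (Y := ⊥) (fun e => z1 (e hz))
    (by rw [Ns, normalizer_eq_top]; exact le_top) (T.pA.to_le inf_le_left) hx
    (by rw [Ns, normalizer_eq_top]; exact mem_top _) h2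
  refine sq_mem_Cs_of_idx (Z := A ⊓ B) (fun z hz => T.ab.sqA z hz.1) hx (idx_of_card_le ?_)
  have : 1 < Nat.card (C1 x ⊓ (A ⊓ B) : Subgroup G) := (one_lt_card_iff_ne_bot _).2 fun e' =>
    a1 (e' ▸ ⟨mem_C1.2 (commutatorElement_eq_one_iff_mul_comm.1 e).symm, ha⟩)
  rw [T.h.card_Z T.zA]
  omega

theorem card_C1_le {x : G} (hx : x ∈ Ns A ⊓ Ns B) (h2 : E2 x) (hA : x ∉ A) :
    Nat.card (C1 x ⊓ A : Subgroup G) ≤ 4 := by
  by_contra! hc
  have h16 : Nat.card A = 16 := by rw [T.h.card_A T.zA, hq]; rfl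
  have hd := card_dvd_of_le (inf_le_right : C1 x ⊓ A ≤ A)
  have hS := T.mem_S_of_idx hx h2 (idx_of_card_le (by
    rw [h16] at hd ⊢
    have := Nat.le_of_dvd (by omega) hd
    generalize Nat.card (C1 x ⊓ A : Subgroup G) = n at *
    interval_cases n <;> omega))
  have := Subgroup.card_le_of_le (show C1 x ⊓ A ≤ A ⊓ B from fun a ha => ⟨ha.2, by_contra fun e =>
    hA (T.ab.mem_of_comm ha.2 e hS (mem_C1.1 ha.1).symm)⟩)
  rw [T.h.card_Z T.zA] at this
  omega

theorem secRank_P {P : Subgroup G} (hP : IsPGroup 2 P) (hS : A ⊔ B ≤ P) :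
    SectionalPRankLE 2 4 P := by
  have hN := T.le_Ns_S hP hS
  by_cases h : P ≤ Ns A ⊓ Ns B
  · have hA := le_sup_left.trans hS
    have : (A.subgroupOf P).Normal := normal_subgroupOf_of_le_normalizer (h.trans inf_le_left)
    have h16 : Nat.card A = 16 := by rw [T.h.card_A T.zA, hq]; rfl
    have hc : Nat.card (A.subgroupOf P) = 16 := by
      rw [Nat.card_congr (subgroupOfEquivOfLe hA).toEquiv, h16]
    have h64 : Nat.card (A ⊔ B : Subgroup G) = 64 := by
      have := Local.CD.card_sup_mul_card_inf_of_le_normalizer T.ab.nB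
      rw [T.h.card_Z T.zA, T.h'.card_A T.zB, h16, hq] at this
      omega
    have hm := (A.subgroupOf P).card_mul_index
    rw [hc, index] at hm
    refine Solv.PG.secRank_four_of_small hP (A.subgroupOf P) hc.le (fun x hx => T.cA fun a ha =>
      congrArg Subtype.val (hx ⟨a, hA ha⟩ ha)) ?_ fun H hH => ?_
    · by_cases hc : IsMulCommutative (P ⧸ A.subgroupOf P)
      · have : P ≤ A ⊔ B := fun x hx => sup_comm A B ▸ T.symm.mem_S_of_triv ⟨(h hx).2, (h hx).1⟩
          (.of_mem hP hx) fun b hb => by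
            have := (hc.is_comm.comm (QuotientGroup.mk ⟨x, hx⟩) (QuotientGroup.mk ⟨b, hS (mem_sup_right hb)⟩))
            rw [← commutatorElement_eq_one_iff_mul_comm] at this
            exact (QuotientGroup.eq_one_iff (N := A.subgroupOf P) ⁅(⟨x, hx⟩ : P), ⟨b, hS (mem_sup_right hb)⟩⁆).1 this
        have := Subgroup.card_le_of_le this
        exact Solv.PG.secRank_of_card_le (by omega)
      · have := card_le_of_idx (T.idx_S h hP fun e he =>
          T.sq_mem_Cs hq (Ns_inf_le_Ns_inf (h he)) (.of_mem hP he))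
        rw [inf_eq_left.2 hS] at this
        exact Solv.PG.secRank_of_card_le_succ (hP.to_quotient _) (by omega) hc
    · obtain ⟨x, hx, hx'⟩ : ∃ x ∈ H, x ∉ A.subgroupOf P := by
        by_contra! e
        rw [(map_eq_bot_iff H).2 (by rwa [QuotientGroup.ker_mk'])] at hH
        exact hH inferInstance
      refine ⟨x, hx, le_trans ?_ (T.card_C1_le hq (h x.2) (.of_mem hP x.2) hx')⟩
      rw [← card_map_of_injective (subtype_injective P)]
      refine Subgroup.card_le_of_le ?_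
      rintro _ ⟨y, hy, rfl⟩
      exact ⟨mem_C1.2 (congrArg Subtype.val (mem_C1.1 hy.1)), hy.2⟩
  obtain ⟨x, hx, hx'⟩ := SetLike.not_le_iff_exists.1 h
  have sw := (T.mem_or_swap (hN hx)).resolve_left hx'
  refine Solv.PG.secRank_four_of_normal_rank hP fun E hE h2 => ?_
  rw [← card_map_of_injective (subtype_injective P), ← hq, ← T.h.card_Z T.zA]
  have hn : P ≤ Ns (E.map P.subtype) := by
    have := le_normalizer_map (H := E) P.subtype
    rwa [normalizer_eq_top, ← MonoidHom.range_eq_map, range_subtype] at this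
  have h3 : ∀ e ∈ E.map P.subtype, e * e = 1 := by
    rintro _ ⟨e, he, rfl⟩
    exact congrArg Subtype.val ((pow_two e).symm.trans (h2 e he))
  generalize hE' : E.map P.subtype = E' at hn h3
  have hle : E' ≤ P := hE' ▸ map_subtype_le E
  have h4 : (A ⊔ B) ⊓ E' ≤ A ⊓ B := fun e he => by
    have h5 : x⁻¹ * e * x ∈ (A ⊔ B) ⊓ E' :=
      ⟨mem_normalizer_conj' (hN hx) he.1, mem_normalizer_conj' (hn hx) he.2⟩
    rcases T.ab.le_or_le (E := (A ⊔ B) ⊓ E') inf_le_left (fun e he => h3 e he.2) with h6 | h6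
    · exact ⟨h6 he, sw.1 ▸ mem_cj.2 (h6 h5)⟩
    · exact ⟨sw.2 ▸ mem_cj.2 (h6 h5), h6 he⟩
  refine Subgroup.card_le_of_le fun e he => h4 ⟨T.mem_S_of_triv' (hN (hle he)) (.of_mem hP (hle he))
    fun a ha => h4 ⟨Par.comm_mem_N (hN (hle he)) (mem_sup_left ha), ?_⟩, he⟩
  exact commutatorElement_inv a e ▸ E'.inv_mem (Par.comm_mem_N (hn (hS (mem_sup_left ha))) he)

/-- For `q = 4` the group has sectional 2-rank at most four. -/
theorem secRank : SectionalPRankLE 2 4 G := by
  obtain ⟨P, hP⟩ := T.ab.isPGroup.exists_le_sylow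
  exact Solv.PG.secRank_of_sylow P (T.secRank_P hq P.isPGroup' hP)

end Two

end Cfsg.Lib.Gomi
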